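import Groth.Agent.MultEqLib.Props
import Groth.Prelude.Def_TwC

/-!
Groups of multiplicative type are affine over the base.
-/

set_option autoImplicit false

universe u

open AlgebraicGeometry CategoryTheory Limits

namespace Groth.Agent.TransLift

/-- A property of morphisms which is local on the target, stable under base change and fpqc descent holds for groups
of multiplicative type as soon as it holds for diagonalisable groups. -/
theorem prop_of_locally (P : MorphismProperty Scheme.{u}) [IsZariskiLocalAtTarget P]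
    [P.IsStableUnderBaseChange] [P.DescendsAlong (@Surjective ⊓ @Flat ⊓ @QuasiCompact)]
    (hDS : ∀ (T : Scheme.{u}) (M : Type) [AddCommGroup M], P (Red.DS T M).hom)
    {S : Scheme.{u}} {H : Over S} [GrpObj H]
    (hH : TwC.Locally S TwC.Topology.fpqc (fun S' f => ∃ (M : Type) (_ : AddCommGroup M),
      Nonempty (Grp.mk (Red.bc f H) ≅ Grp.mk (Red.DS S' M)))) : P H.hom := by
  obtain ⟨S', f, hflat, hsurj, hcov, hloc⟩ := hH
  refine (IsZariskiLocalAtTarget.iff_of_iSup_eq_top (fun V : S.affineOpens => (V : S.Opens))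
    (iSup_affineOpens_eq_top S)).2 fun V => ?_
  obtain ⟨W, hW, hWV⟩ := hcov V V.2
  have hle : W ≤ f ⁻¹ᵁ (V : S.Opens) := fun x hx => by
    show f.base x ∈ ((V : S.Opens) : Set S)
    rw [← hWV]
    exact ⟨x, hx, rfl⟩
  let g : (W : Scheme.{u}) ⟶ (V : S.Opens) := f.resLE V W hle
  haveI : Flat g := by
    haveI : Flat (g ≫ (V : S.Opens).ι) := by
      rw [Scheme.Hom.resLE_comp_ι]; infer_instance
    exact MorphismProperty.of_postcomp (W' := @IsOpenImmersion) @Flat g (V : S.Opens).ι inferInstance inferInstance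
  haveI : Surjective g := ⟨fun v => by
    have hv : v.1 ∈ f.base '' (W : Set S') := by rw [hWV]; exact v.2
    obtain ⟨x, hx, hxv⟩ := hv
    refine ⟨⟨x, hx⟩, Subtype.ext ?_⟩
    have := congrArg (fun m : (W : Scheme.{u}) ⟶ S => m.base ⟨x, hx⟩) (f.resLE_comp_ι hle)
    exact this.trans hxv⟩
  haveI : CompactSpace (W : Scheme.{u}) := isCompact_iff_compactSpace.1 hW
  haveI : IsAffine (V : S.Opens) := V.2
  haveI : QuasiCompact g := quasiCompact_iff_compactSpace g |>.2 inferInstance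
  refine MorphismProperty.of_pullback_snd_of_descendsAlong (P := P)
    (Q := @Surjective ⊓ @Flat ⊓ @QuasiCompact) (f := H.hom ∣_ (V : S.Opens)) (g := g)
    ⟨⟨inferInstance, inferInstance⟩, inferInstance⟩ ?_
  suffices hb : P (pullback.snd H.hom (W.ι ≫ f)) by
    have sq : IsPullback (pullback.fst (H.hom ∣_ (V : S.Opens)) g ≫ (H.hom ⁻¹ᵁ (V : S.Opens)).ι)
        (pullback.snd (H.hom ∣_ (V : S.Opens)) g) H.hom (W.ι ≫ f) := by
      rw [← f.resLE_comp_ι hle]
      exact (IsPullback.of_hasPullback _ _).paste_horiz (isPullback_morphismRestrict _ _).flip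
    have := sq.isoPullback_hom_snd
    rw [← this]
    exact (P.cancel_left_of_respectsIso _ _).2 hb
  choose U hxU M _ hiso using fun x : (W : Scheme.{u}) => hloc x.1
  refine (IsZariskiLocalAtTarget.iff_of_iSup_eq_top (fun x => W.ι ⁻¹ᵁ U x) (TopologicalSpace.Opens.ext ?_)).2 fun x => ?_
  · refine Set.eq_univ_of_forall fun y => ?_
    simp only [TopologicalSpace.Opens.coe_iSup, Set.mem_iUnion]
    exact ⟨y, hxU y⟩
  obtain ⟨e⟩ := hiso x
  have h1 : P (pullback.snd H.hom ((U x).ι ≫ f)) := by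
    have hw := Over.w ((Grp.forget _).mapIso e).hom
    rw [show pullback.snd H.hom ((U x).ι ≫ f) = (Red.bc ((U x).ι ≫ f) H).hom from rfl]
    have h2 := hDS (U x : Scheme.{u}) (M x)
    let i := (Over.forget _).mapIso ((Grp.forget _).mapIso e)
    exact hw ▸ (P.cancel_left_of_respectsIso i.hom _).2 h2
  let r : ((W.ι ⁻¹ᵁ U x : (W : Scheme.{u}).Opens) : Scheme.{u}) ⟶ U x := W.ι.resLE (U x) _ le_rfl
  have h3 : P (pullback.snd H.hom (r ≫ (U x).ι ≫ f)) := by
    rw [← pullbackLeftPullbackSndIso_hom_snd H.hom ((U x).ι ≫ f) r |> fun e => (Iso.inv_comp_eq _).2 e.symm]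
    exact (P.cancel_left_of_respectsIso _ _).2 (MorphismProperty.pullback_snd _ _ h1)
  have he : r ≫ (U x).ι ≫ f = (W.ι ⁻¹ᵁ U x).ι ≫ W.ι ≫ f := W.ι.resLE_comp_ι_assoc le_rfl f
  have sq : IsPullback ((pullback.snd H.hom (W.ι ≫ f) ⁻¹ᵁ (W.ι ⁻¹ᵁ U x)).ι ≫ pullback.fst H.hom (W.ι ≫ f))
      (pullback.snd H.hom (W.ι ≫ f) ∣_ (W.ι ⁻¹ᵁ U x)) H.hom ((W.ι ⁻¹ᵁ U x).ι ≫ W.ι ≫ f) :=
    (isPullback_morphismRestrict _ _).flip.paste_horiz (IsPullback.of_hasPullback _ _)
  rw [← he] at sq
  rw [← sq.isoPullback_hom_snd]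
  exact (P.cancel_left_of_respectsIso _ _).2 h3


/-- Groups of multiplicative type are affine over the base. -/
theorem isAffineHom_of_locally {S : Scheme.{u}} {H : Over S} [GrpObj H]
    (hH : TwC.Locally S TwC.Topology.fpqc (fun S' f => ∃ (M : Type) (_ : AddCommGroup M),
      Nonempty (Grp.mk (Red.bc f H) ≅ Grp.mk (Red.DS S' M)))) : IsAffineHom H.hom :=
  prop_of_locally @IsAffineHom (fun T M _ => MultEq.isAffineHom_DS T M) hH

end Groth.Agent.TransLift
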