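import Groth.Agent.TransLiftLib.Glue
import Groth.Agent.TransLiftLib.Affine

/-!
Points conjugating a homomorphism from a group of multiplicative type into a smooth subgroup lift along nilpotent
thickenings.
-/

set_option autoImplicit false
set_option backward.isDefEq.respectTransparency false

noncomputable section

universe u

open CategoryTheory CategoryTheory.Limits MonoidalCategory CartesianMonoidalCategory AlgebraicGeometry CoactBr
open scoped MonObj

namespace Groth.Agent.TransLift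

open Groth.Agent.ConjAvg (AgreeMod locally_bc exists_lift_algebra pt_id')

attribute [local instance] CoactBr.braidedAlgSpecOf

variable {R : Type u} [CommRing R] {G K H : Over (Spec (CommRingCat.of R))} [GrpObj G] [GrpObj K] [GrpObj H]

/-- A point conjugates the homomorphism into the subgroup. -/
def Enters (u : H ⟶ G) (k : K ⟶ G) {A : Type u} [CommRing A] [Algebra R A] (g : sp R A ⟶ G) : Prop :=
  ∀ (X : Over (Spec (CommRingCat.of R))) (p : X ⟶ sp R A) (h : X ⟶ H),
    ∃ x : X ⟶ K, x ≫ k = (p ≫ g) * (h ≫ u) * (p ≫ g)⁻¹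

omit [GrpObj H] in
/-- A morphism from an affine scheme entering a smooth subgroup modulo a nilpotent ideal lifts to it. -/
theorem exists_lift_mod {A : Type u} [CommRing A] {G' K' H' : Over (Spec (CommRingCat.of A))} [GrpObj G']
    [IsAffineHom H'.hom] [Smooth K'.hom] {I : Ideal A} (hI : IsNilpotent I) (w : H' ⟶ G') (k : K' ⟶ G')
    (h : ∀ (C : Type u) [CommRing C] [Algebra A C], I ≤ RingHom.ker (algebraMap A C) → ∀ y : sp A C ⟶ H',
      ∃ x : sp A C ⟶ K', x ≫ k = y ≫ w) :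
    ∃ v : H' ⟶ K', AgreeMod I w (v ≫ k) := by
  haveI : IsAffine H'.left := isAffine_of_isAffineHom H'.hom
  obtain ⟨φ, hφ⟩ := Spec.map_surjective (H'.left.isoSpec.inv ≫ H'.hom)
  let P : Type u := Γ(H'.left, ⊤)
  letI : Algebra A P := φ.hom.toAlgebra
  have hP : (sp A P).hom = H'.left.isoSpec.inv ≫ H'.hom := by
    show Spec.map (CommRingCat.ofHom φ.hom) = _
    rw [CommRingCat.ofHom_hom, hφ]
  let i : sp A P ⟶ H' := Over.homMk H'.left.isoSpec.inv hP.symm
  haveI : IsIso ((Over.forget _).map i) := inferInstanceAs (IsIso H'.left.isoSpec.inv)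
  haveI : IsIso i := isIso_of_reflects_iso _ (Over.forget _)
  let N : Ideal P := I.map (algebraMap A P)
  have hN : I ≤ RingHom.ker (algebraMap A (P ⧸ N)) := fun r hr => by
    rw [RingHom.mem_ker, IsScalarTower.algebraMap_apply A P (P ⧸ N)]
    exact Ideal.Quotient.eq_zero_iff_mem.2 (Ideal.mem_map_of_mem _ hr)
  obtain ⟨x, hx⟩ := h (P ⧸ N) hN (pt (Ideal.Quotient.mkₐ A N) ≫ i)
  have hNn : IsNilpotent N := by
    obtain ⟨n, hn⟩ := hI
    exact ⟨n, by rw [← Ideal.map_pow, hn]; exact Ideal.map_bot⟩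
  obtain ⟨v₀, hv₀⟩ := exists_lift_algebra (X := K') hNn x
  refine ⟨inv i ≫ v₀, fun C _ _ hC y => ?_⟩
  obtain ⟨L, hL⟩ := DiagRep.exists_pt (y ≫ inv i)
  let L₀ : (P ⧸ N) →ₐ[A] C := Ideal.Quotient.liftₐ N L (fun a ha => by
    have : N ≤ RingHom.ker L.toRingHom := Ideal.map_le_iff_le_comap.2 fun r hr => by
      show L (algebraMap A P r) = 0
      rw [L.commutes]
      exact hC hr
    exact this ha)
  have hy : y = pt L₀ ≫ pt (Ideal.Quotient.mkₐ A N) ≫ i := by
    rw [← Category.assoc, ← pt_comp, show L₀.comp (Ideal.Quotient.mkₐ A N) = L from AlgHom.ext fun _ => rfl, ← hL,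
      Category.assoc, IsIso.inv_hom_id, Category.comp_id]
  rw [hy]
  simp only [Category.assoc, IsIso.hom_inv_id_assoc]
  rw [← Category.assoc (pt (Ideal.Quotient.mkₐ A N)) v₀ k, hv₀, hx]
  simp only [Category.assoc]

/-- Conjugating points into a smooth subgroup lift along square-zero thickenings. -/
theorem exists_enters_sq [Smooth G.hom]
    (hH : TwC.Locally (Spec (CommRingCat.of R)) TwC.Topology.fpqc (fun S' f => ∃ (M : Type) (_ : AddCommGroup M),
      Nonempty (Grp.mk (Red.bc f H) ≅ Grp.mk (Red.DS S' M)))) (hKs : Smooth K.hom)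
    (u : H ⟶ G) [IsMonHom u] (k : K ⟶ G) [IsMonHom k] [IsImmersion k.left] {A : Type u} [CommRing A] [Algebra R A]
    {I : Ideal A} (hI : I ^ 2 = ⊥) (g₀ : sp R (A ⧸ I) ⟶ G) (h0 : Enters u k g₀) :
    ∃ g : sp R A ⟶ G, pt (Ideal.Quotient.mkₐ R I) ≫ g = g₀ ∧ Enters u k g := by
  let p : Spec (CommRingCat.of A) ⟶ Spec (CommRingCat.of R) := (sp R A).hom
  let adj := Over.mapPullbackAdj p
  let u' : Red.bc p H ⟶ Red.bc p G := (Over.pullback p).map u
  let k' : Red.bc p K ⟶ Red.bc p G := (Over.pullback p).map k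
  haveI : IsMonHom u' := DiagRep.isMonHom_bc_map p u
  haveI : IsMonHom k' := DiagRep.isMonHom_bc_map p k
  haveI : Smooth (Red.bc p G).hom := inferInstanceAs (Smooth (pullback.snd G.hom p))
  let εK : (Over.map p).obj (SqLift.S₀ I) ⟶ sp R (A ⧸ I) := Over.homMk (𝟙 _) (by
    show 𝟙 _ ≫ Spec.map (CommRingCat.ofHom (algebraMap R (A ⧸ I))) =
      Spec.map (CommRingCat.ofHom (Ideal.Quotient.mk I)) ≫ Spec.map (CommRingCat.ofHom (algebraMap R A))
    rw [Category.id_comp, ← Spec.map_comp, ← CommRingCat.ofHom_comp]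
    rfl)
  obtain ⟨s, hs⟩ := SqLift.exists_lift_sq (X := Red.bc p G) hI (adj.homEquiv _ G (εK ≫ g₀))
  let u'' : Red.bc p H ⟶ Red.bc p G := u' ≫ AGF.conjBy s (𝟙 (Red.bc p G))
  haveI : IsMonHom (AGF.conjBy s (𝟙 (Red.bc p G))) := DiagRep.isMonHom_conjBy s
  haveI : IsMonHom u'' := inferInstanceAs (IsMonHom (u' ≫ AGF.conjBy s (𝟙 (Red.bc p G))))
  have hu'' : ∀ {Y : Over (Spec (CommRingCat.of A))} (h : Y ⟶ Red.bc p H),
      h ≫ u'' = (toUnit Y ≫ s) * (h ≫ u') * (toUnit Y ≫ s)⁻¹ := fun {Y} h => by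
    rw [show u'' = AGF.conjBy s u' from (DiagRep.conjBy_eq_comp s u').symm, AGF.conjBy, MonObj.comp_mul,
      MonObj.comp_mul, GrpObj.comp_inv, ← Category.assoc, toUnit_unique (h ≫ toUnit _) (toUnit Y)]
  have hinv : ∀ (X : Over (Spec (CommRingCat.of A))) (a : (Over.map p).obj X ⟶ G),
      adj.homEquiv X G a⁻¹ = (adj.homEquiv X G a)⁻¹ := fun X a =>
    map_inv (MonoidHom.mk' (adj.homEquiv X G) (fun a b => AlgGrp.Action.homEquiv_mul p a b)) a
  haveI : IsImmersion k'.left := MorphismProperty.baseChange_map (P := @IsImmersion) p k inferInstance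
  haveI : Mono k' := Over.mono_of_mono_left _
  haveI : Smooth (Red.bc p K).hom := by
    haveI := hKs
    exact inferInstanceAs (Smooth (pullback.snd K.hom p))
  haveI : IsAffineHom (Red.bc p H).hom := isAffineHom_of_locally (locally_bc p hH)
  obtain ⟨v, hv⟩ := exists_lift_mod (I := I) ⟨2, hI⟩ u'' k' (fun C _ _ hC y => by
    obtain ⟨h₀, rfl⟩ := (adj.homEquiv (sp A C) H).surjective y
    let t := (Over.map p).map (SqLift.toS₀ C hC) ≫ εK
    have hs' : toUnit (sp A C) ≫ s = adj.homEquiv (sp A C) G (t ≫ g₀) := by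
      rw [toUnit_unique (toUnit (sp A C)) (SqLift.toS₀ C hC ≫ toUnit _), Category.assoc, hs, Category.assoc,
        Adjunction.homEquiv_naturality_left]
    obtain ⟨x, hx⟩ := h0 _ t h₀
    refine ⟨adj.homEquiv (sp A C) K x, ?_⟩
    have e := congrArg (adj.homEquiv (sp A C) G) hx
    rw [AlgGrp.Action.homEquiv_mul, AlgGrp.Action.homEquiv_mul, hinv, adj.homEquiv_naturality_right h₀ u,
      adj.homEquiv_naturality_right x k, ← hs'] at e
    exact e.trans (hu'' _).symm)
  obtain ⟨kz, hkz1, hkz⟩ := exists_enters hI (locally_bc p hH) u'' k' v hv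
  let g' : 𝟙_ (Over (Spec (CommRingCat.of A))) ⟶ Red.bc p G := kz * s
  let εA : sp R A ⟶ (Over.map p).obj (𝟙_ (Over (Spec (CommRingCat.of A)))) := Over.homMk (𝟙 _) (by
    show 𝟙 _ ≫ 𝟙 _ ≫ p = _
    rw [Category.id_comp, Category.id_comp])
  refine ⟨εA ≫ (adj.homEquiv _ G).symm g', ?_, fun X q h => ?_⟩
  · haveI : IsIso ((Over.forget _).map εK) := inferInstanceAs (IsIso (𝟙 _))
    haveI : IsIso εK := isIso_of_reflects_iso _ (Over.forget _)
    have e : εK ≫ pt (Ideal.Quotient.mkₐ R I) ≫ εA = (Over.map p).map (toUnit (SqLift.S₀ I)) := by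
      refine Over.OverMorphism.ext ?_
      have ht : (toUnit (SqLift.S₀ I)).left = (SqLift.S₀ I).hom :=
        (Category.comp_id _).symm.trans (Over.w (toUnit _))
      show 𝟙 _ ≫ Spec.map (CommRingCat.ofHom (Ideal.Quotient.mk I)) ≫ 𝟙 _ = (toUnit (SqLift.S₀ I)).left
      rw [ht, Category.id_comp, Category.comp_id]
      rfl
    rw [← cancel_epi εK, ← Category.assoc, ← Category.assoc, Category.assoc εK, e,
      ← adj.homEquiv_naturality_left_symm, MonObj.comp_mul, hkz1, hs, one_mul, Equiv.symm_apply_apply]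
  · let X' : Over (Spec (CommRingCat.of A)) := Over.mk q.left
    let ε : (Over.map p).obj X' ⟶ X := Over.homMk (𝟙 _) (by
      show 𝟙 _ ≫ X.hom = q.left ≫ p
      rw [Category.id_comp, Over.w q])
    haveI : IsIso ((Over.forget _).map ε) := inferInstanceAs (IsIso (𝟙 _))
    haveI : IsIso ε := isIso_of_reflects_iso _ (Over.forget _)
    have e : ε ≫ q ≫ εA = (Over.map p).map (toUnit X') := by
      refine Over.OverMorphism.ext ?_
      have ht : (toUnit X').left = X'.hom := (Category.comp_id _).symm.trans (Over.w (toUnit _))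
      show 𝟙 _ ≫ q.left ≫ 𝟙 _ = (toUnit X').left
      rw [ht, Category.id_comp, Category.comp_id]
      rfl
    have e' : ε ≫ q ≫ εA ≫ (adj.homEquiv _ G).symm g' = (adj.homEquiv X' G).symm (toUnit X' ≫ g') := by
      rw [adj.homEquiv_naturality_left_symm, ← e, Category.assoc, Category.assoc]
    let y : X' ⟶ Red.bc p H := adj.homEquiv X' H (ε ≫ h)
    obtain ⟨x, hx⟩ := hkz X' y
    obtain ⟨x₀, rfl⟩ := (adj.homEquiv X' K).surjective x
    refine ⟨inv ε ≫ x₀, ?_⟩
    rw [← cancel_epi ε, Category.assoc (inv ε), IsIso.hom_inv_id_assoc, MonObj.comp_mul, MonObj.comp_mul,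
      GrpObj.comp_inv, e']
    refine (adj.homEquiv X' G).injective ?_
    have hu : adj.homEquiv X' G (ε ≫ h ≫ u) = y ≫ u' :=
      (congrArg (adj.homEquiv X' G) (Category.assoc _ _ _).symm).trans (adj.homEquiv_naturality_right (ε ≫ h) u)
    rw [AlgGrp.Action.homEquiv_mul, AlgGrp.Action.homEquiv_mul, hinv, Equiv.apply_symm_apply, hu,
      adj.homEquiv_naturality_right x₀ k]
    refine hx.trans ?_
    rw [hu'', MonObj.comp_mul]
    simp only [mul_assoc, mul_inv_rev]

/-- Conjugating points into a smooth subgroup lift along nilpotent thickenings. -/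
theorem exists_enters_nilpotent [Smooth G.hom]
    (hH : TwC.Locally (Spec (CommRingCat.of R)) TwC.Topology.fpqc (fun S' f => ∃ (M : Type) (_ : AddCommGroup M),
      Nonempty (Grp.mk (Red.bc f H) ≅ Grp.mk (Red.DS S' M)))) (hKs : Smooth K.hom)
    (u : H ⟶ G) [IsMonHom u] (k : K ⟶ G) [IsMonHom k] [IsImmersion k.left] {A : Type u} [CommRing A]
    [iA : Algebra R A] {I : Ideal A} (hI : IsNilpotent I) (g₀ : sp R (A ⧸ I) ⟶ G) (h0 : Enters u k g₀) :
    ∃ g : sp R A ⟶ G, pt (Ideal.Quotient.mkₐ R I) ≫ g = g₀ ∧ Enters u k g := by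
  revert iA g₀
  refine Ideal.IsNilpotent.induction_on I hI
    (P := fun S _ I => ∀ [Algebra R S] (g₀ : sp R (S ⧸ I) ⟶ G), Enters u k g₀ →
      ∃ g : sp R S ⟶ G, pt (Ideal.Quotient.mkₐ R I) ≫ g = g₀ ∧ Enters u k g) ?_ ?_
  · intro S _ I hI _ g₀ h0
    exact exists_enters_sq hH hKs u k hI g₀ h0
  · intro S _ I J hIJ hPI hPJ _ g₀ h0
    let e : ((S ⧸ I) ⧸ J.map (Ideal.Quotient.mk I)) ≃ₐ[R] S ⧸ J := DoubleQuot.quotQuotEquivQuotOfLEₐ R hIJ
    obtain ⟨g₁, hg₁, hr₁⟩ := hPJ (pt e.symm.toAlgHom ≫ g₀) fun X q h => by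
      rw [← Category.assoc]
      exact h0 X _ h
    obtain ⟨g, hg, hr⟩ := hPI g₁ hr₁
    refine ⟨g, ?_, hr⟩
    have e1 : Ideal.Quotient.mkₐ R J =
        (e.toAlgHom.comp (Ideal.Quotient.mkₐ R (J.map (Ideal.Quotient.mk I)))).comp (Ideal.Quotient.mkₐ R I) :=
      AlgHom.ext fun _ => rfl
    rw [e1, pt_comp, pt_comp, Category.assoc, Category.assoc, hg, hg₁, ← Category.assoc, ← pt_comp,
      show e.toAlgHom.comp e.symm.toAlgHom = AlgHom.id R _ from AlgHom.ext e.apply_symm_apply, pt_id',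
      Category.id_comp]

end Groth.Agent.TransLift
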