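import Groth.Agent.TransLiftLib.Avg

/-!
Gluing averaged values.
-/

set_option autoImplicit false
set_option backward.isDefEq.respectTransparency false

noncomputable section

universe u

open CategoryTheory CategoryTheory.Limits MonoidalCategory CartesianMonoidalCategory AlgebraicGeometry CoactBr
open scoped MonObj TensorProduct

namespace Groth.Agent.TransLift

open Groth.Agent.FreeAct (DA)
open Groth.Agent.ConjAvg (LChart IsPush int int_one pts pts_surjective AgreeMod Piece one_left' eq_of_cover exists_isPush)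

attribute [local instance] CoactBr.braidedAlgSpecOf

variable {R : Type u} [CommRing R] {G K H : Over (Spec (CommRingCat.of R))} [GrpObj G] [GrpObj K] [GrpObj H]

theorem nonempty_lchart (V : G.left.Opens) (hV : IsAffineOpen V) {B : Type u} [CommRing B] [Algebra R B]
    {T : Scheme.{u}} (i : Spec (CommRingCat.of B) ⟶ T) (t : T ⟶ Spec (CommRingCat.of R))
    (hp : (sp R B).hom = i ≫ t)
    (hmem : ∀ x, (η[G] : 𝟙_ (Over (Spec (CommRingCat.of R))) ⟶ G).left (t (i x)) ∈ V) : Nonempty (LChart G B) := by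
  let ηl := (η[G] : 𝟙_ (Over (Spec (CommRingCat.of R))) ⟶ G).left
  obtain ⟨φ', hφ'⟩ := Spec.map_surjective (hV.fromSpec ≫ G.hom)
  letI : Algebra R Γ(G.left, V) := φ'.hom.toAlgebra
  let jV : sp R Γ(G.left, V) ⟶ G := Over.homMk hV.fromSpec (by
    show hV.fromSpec ≫ G.hom = Spec.map (CommRingCat.ofHom φ'.hom)
    rw [CommRingCat.ofHom_hom, hφ'])
  haveI : IsOpenImmersion jV.left := IsAffineOpen.isOpenImmersion_fromSpec hV
  let e₁ : sp R B ⟶ G := 1
  have hsub : Set.range e₁.left ⊆ Set.range jV.left := by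
    rintro _ ⟨x, rfl⟩
    show e₁.left x ∈ Set.range hV.fromSpec
    rw [hV.range_fromSpec, show e₁.left = (i ≫ t) ≫ ηl from one_left'.trans (congrArg (· ≫ ηl) hp)]
    exact hmem x
  let l := IsOpenImmersion.lift jV.left e₁.left hsub
  have hl : l ≫ jV.left = e₁.left := IsOpenImmersion.lift_fac _ _ _
  let y : sp R B ⟶ sp R Γ(G.left, V) := Over.homMk l (by rw [← Over.w jV, ← Category.assoc, hl, Over.w])
  obtain ⟨L, hL⟩ := DiagRep.exists_pt y
  exact ⟨{ ring := Γ(G.left, V), hom := jV, isOpen := inferInstance, one := L,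
           pt_one := by rw [← hL]; exact Over.OverMorphism.ext hl }⟩

/-- An affine piece on which the group is split and both units lie in affine opens. -/
structure Piece₃ (H G K : Over (Spec (CommRingCat.of R))) [GrpObj H] [GrpObj G] [GrpObj K] extends Piece H G where
  /-- the chart of the subgroup -/
  VK : LChart K B

namespace Piece₃

variable (P : Piece₃ H G K) {J : Ideal R} (hJ : J ^ 2 = ⊥) (w : H ⟶ G) [IsMonHom w] (k : K ⟶ G) [IsMonHom k]
  (v : H ⟶ K)

/-- The averaged value on the piece. -/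
def Good (J : Ideal R) (hJ : J ^ 2 = ⊥) (w : H ⟶ G) (k : K ⟶ G) (v : H ⟶ K) (z : sp R P.B ⟶ G) : Prop :=
  ∃ (spl : sp P.B (DA P.B P.M) ≅ Red.bc (sp R P.B).hom H) (_ : IsMonHom spl.hom),
    IsAvg spl ((v ≫ k) * w⁻¹) J hJ z

omit [IsMonHom w] [IsMonHom k] in
theorem agree_one (hmod : AgreeMod J w (v ≫ k)) : AgreeMod J ((v ≫ k) * w⁻¹) 1 := fun D _ _ hD y => by
  rw [MonObj.comp_mul, GrpObj.comp_inv, ← hmod D hD y, mul_inv_cancel, MonObj.comp_one]

theorem exists_good (h : AgreeMod J w (v ≫ k)) : ∃ z, P.Good J hJ w k v z := by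
  obtain ⟨spl, hspl⟩ := P.toPiece.exists_split P.B (AlgHom.id R P.B)
  haveI := hspl
  obtain ⟨z, hz⟩ := exists_isPush (hJ := hJ) (ℓ := int P.B P.M) (h1 := int_one P.B) P.V _
    (congr_one (agree_one w k v h) _ (pts spl (MonoidAlgebra P.B (Multiplicative P.M)) (MonoidAlgebra.of P.B _)))
  exact ⟨z, spl, hspl, hz⟩

variable {P hJ w k v}

/-- The averaged values of two pieces agree on common algebras. -/
theorem agree {Q : Piece₃ H G K} {z : sp R P.B ⟶ G} (hz : P.Good J hJ w k v z) {z' : sp R Q.B ⟶ G}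
    (hz' : Q.Good J hJ w k v z') (C : Type u) [CommRing C] [Algebra R C] (β : P.B →ₐ[R] C) (β' : Q.B →ₐ[R] C) :
    pt β ≫ z = pt β' ≫ z' := by
  obtain ⟨s, hs, hz⟩ := hz
  obtain ⟨s', hs', hz'⟩ := hz'
  haveI := hs
  haveI := hs'
  obtain ⟨wC, hwC⟩ := P.toPiece.exists_split C β
  haveI := hwC
  have h1 : IsAvg wC ((v ≫ k) * w⁻¹) J hJ (pt β ≫ z) := by
    letI : Algebra P.B C := β.toRingHom.toAlgebra
    haveI : IsScalarTower R P.B C := IsScalarTower.of_algebraMap_eq fun r => (β.commutes r).symm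
    rw [show β = IsScalarTower.toAlgHom R P.B C from AlgHom.ext fun _ => rfl]
    exact isAvg_bc hz C wC
  have h2 : IsAvg wC ((v ≫ k) * w⁻¹) J hJ (pt β' ≫ z') := by
    letI : Algebra Q.B C := β'.toRingHom.toAlgebra
    haveI : IsScalarTower R Q.B C := IsScalarTower.of_algebraMap_eq fun r => (β'.commutes r).symm
    rw [show β' = IsScalarTower.toAlgHom R Q.B C from AlgHom.ext fun _ => rfl]
    exact isAvg_bc hz' C wC
  exact IsPush.unique (P.V.map β) h1 h2

theorem enters [Mono k] (hmod : AgreeMod J w (v ≫ k)) {z : sp R P.B ⟶ G} (hz : P.Good J hJ w k v z) (C : Type u)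
    [CommRing C] [Algebra R C] (β : P.B →ₐ[R] C) (h : sp R C ⟶ H) :
    ∃ l : sp R C ⟶ K, (pt β ≫ z) * (h ≫ w) * (pt β ≫ z)⁻¹ = l ≫ k := by
  obtain ⟨s, hs, hz⟩ := hz
  haveI := hs
  letI : Algebra P.B C := β.toRingHom.toAlgebra
  haveI : IsScalarTower R P.B C := IsScalarTower.of_algebraMap_eq fun r => (β.commutes r).symm
  obtain ⟨χ, rfl⟩ := pts_surjective s C h
  rw [show β = IsScalarTower.toAlgHom R P.B C from AlgHom.ext fun _ => rfl]
  exact hz.enters w k v hmod P.V P.VK C χ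

theorem comp_eq_one {z : sp R P.B ⟶ G} (hz : P.Good J hJ w k v z) (C : Type u) [CommRing C]
    [Algebra R C] (β : P.B →ₐ[R] C) (hC : J ≤ RingHom.ker (algebraMap R C)) : pt β ≫ z = 1 := by
  obtain ⟨s, hs, hz⟩ := hz
  haveI := hs
  let N : Ideal P.B := J.map (algebraMap R P.B)
  let β₀ : (P.B ⧸ N) →ₐ[R] C := Ideal.Quotient.liftₐ N β (fun a ha => by
    have : N ≤ RingHom.ker β.toRingHom := Ideal.map_le_iff_le_comap.2 fun r hr => by
      show β (algebraMap R P.B r) = 0
      rw [β.commutes]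
      exact hC hr
    exact this ha)
  rw [show β = β₀.comp (Ideal.Quotient.mkₐ R N) from AlgHom.ext fun _ => rfl, pt_comp, Category.assoc,
    IsPush.congr_one hz, MonObj.comp_one]

end Piece₃

/-- The averaged values on two pieces agree along maps to them over the base. -/
theorem agree_hom {P Q : Piece₃ H G K} {J : Ideal R} {hJ : J ^ 2 = ⊥} {w : H ⟶ G} [IsMonHom w] {k : K ⟶ G}
    [IsMonHom k] {v : H ⟶ K} {z : sp R P.B ⟶ G} (hz : P.Good J hJ w k v z) {z' : sp R Q.B ⟶ G}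
    (hz' : Q.Good J hJ w k v z') {C : Type u}
    [CommRing C] (a : Spec (CommRingCat.of C) ⟶ Spec (CommRingCat.of P.B))
    (b : Spec (CommRingCat.of C) ⟶ Spec (CommRingCat.of Q.B)) (hab : a ≫ (sp R P.B).hom = b ≫ (sp R Q.B).hom) :
    a ≫ z.left = b ≫ z'.left := by
  obtain ⟨φ, hφ⟩ := Spec.map_surjective (a ≫ (sp R P.B).hom)
  letI : Algebra R C := φ.hom.toAlgebra
  have hC : (sp R C).hom = a ≫ (sp R P.B).hom := by
    show Spec.map (CommRingCat.ofHom φ.hom) = _
    rw [CommRingCat.ofHom_hom, hφ]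
  obtain ⟨β, hβ⟩ := DiagRep.exists_pt (Over.homMk a hC.symm : sp R C ⟶ sp R P.B)
  obtain ⟨β', hβ'⟩ := DiagRep.exists_pt (Over.homMk b (hC.trans hab).symm : sp R C ⟶ sp R Q.B)
  have h := congrArg CommaMorphism.left (Piece₃.agree hz hz' C β β')
  rw [← hβ, ← hβ'] at h
  exact h

/-- Factorisations through immersions descend from points over algebras over the pieces of an fpqc cover. -/
theorem exists_factor_of_cover {S' : Scheme.{u}} (f : S' ⟶ Spec (CommRingCat.of R)) [Flat f] [Surjective f]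
    (𝒰 : S'.OpenCover) (B : 𝒰.I₀ → Type u) [∀ x, CommRing (B x)] [∀ x, Algebra R (B x)]
    (e : ∀ x, 𝒰.X x ⟶ Spec (CommRingCat.of (B x))) (he : ∀ x, 𝒰.f x ≫ f = e x ≫ (sp R (B x)).hom)
    {Y : Over (Spec (CommRingCat.of R))} (k : K ⟶ G) [IsImmersion k.left] (a : Y ⟶ G)
    (h : ∀ (x : 𝒰.I₀) (C : Type u) [CommRing C] [Algebra R C] (_ : B x →ₐ[R] C) (y : sp R C ⟶ Y),
      ∃ l : sp R C ⟶ K, l ≫ k = y ≫ a) :
    ∃ l : Y ⟶ K, l ≫ k = a := by
  let I : S' → 𝒰.I₀ := fun s => (𝒰.exists_eq s).choose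
  let Z : 𝒰.I₀ → Scheme.{u} := fun x => pullback Y.hom (𝒰.f x ≫ f)
  have hsurj : ∀ y : Y.left, ∃ (s : S') (z : Z (I s)), pullback.fst Y.hom (𝒰.f (I s) ≫ f) z = y := fun y => by
    obtain ⟨s, hs⟩ := f.surjective (Y.hom y)
    obtain ⟨b, hb⟩ := (𝒰.exists_eq s).choose_spec
    obtain ⟨z, hz, -⟩ := Scheme.Pullback.exists_preimage_pullback (f := Y.hom) (g := 𝒰.f (I s) ≫ f) y b (by
      rw [Scheme.Hom.comp_apply, hb, hs])
    exact ⟨s, z, hz⟩
  choose s z hz using hsurj
  have hpc : ∀ y, ∃ (C : CommRingCat.{u}) (c : Spec C ⟶ Z (I (s y))), IsOpenImmersion c ∧ z y ∈ Set.range c := fun y => by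
    obtain ⟨W, hW, hzW, -⟩ := exists_isAffineOpen_mem_and_subset (X := Z (I (s y))) (x := z y) (U := ⊤) trivial
    exact ⟨_, hW.fromSpec, IsAffineOpen.isOpenImmersion_fromSpec hW, by rw [hW.range_fromSpec]; exact hzW⟩
  choose C c hc₀ hcz using hpc
  let T : Y.left → Scheme.{u} := fun y => Spec (C y)
  let q : ∀ y, T y ⟶ Y.left := fun y => c y ≫ pullback.fst _ _
  let π : (∐ T) ⟶ Y.left := Sigma.desc q
  haveI : Flat π := IsZariskiLocalAtSource.sigmaDesc fun y => by
    haveI := hc₀ y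
    simp only [q]
    infer_instance
  haveI : Surjective π := ⟨fun y => by
    obtain ⟨b, hb⟩ := hcz y
    refine ⟨Sigma.ι T y b, ?_⟩
    rw [← Scheme.Hom.comp_apply, Sigma.ι_desc]
    simp only [q, Scheme.Hom.comp_apply]
    rw [hb, hz]⟩
  let zk := pullback.snd k.left a.left
  haveI : IsImmersion zk := inferInstanceAs (IsImmersion (pullback.snd k.left a.left))
  have hs' : ∀ y, ∃ t : T y ⟶ pullback k.left a.left, t ≫ zk = q y := by
    intro y
    obtain ⟨φ, hφ⟩ := Spec.map_surjective (q y ≫ Y.hom)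
    letI : Algebra R (C y) := φ.hom.toAlgebra
    have hC : (sp R (C y)).hom = q y ≫ Y.hom := by
      show Spec.map (CommRingCat.ofHom φ.hom) = _
      rw [CommRingCat.ofHom_hom, hφ]
    have hcond : (c y ≫ pullback.snd _ _ ≫ e (I (s y))) ≫ (sp R (B (I (s y)))).hom = q y ≫ Y.hom := by
      simp only [q, Category.assoc]
      rw [← he, pullback.condition]
    obtain ⟨β, -⟩ := DiagRep.exists_pt (Over.homMk (c y ≫ pullback.snd _ _ ≫ e (I (s y))) (hcond.trans hC.symm) :
      sp R (C y) ⟶ sp R (B (I (s y))))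
    obtain ⟨l, hl⟩ := h (I (s y)) _ β (Over.homMk (q y) hC.symm)
    exact ⟨pullback.lift l.left (q y) (congrArg CommaMorphism.left hl), pullback.lift_snd _ _ _⟩
  choose t ht using hs'
  haveI : IsIso zk := MultLift.isIso_of_factor zk π (Sigma.desc t) (Sigma.hom_ext _ _ fun y => by
    rw [Sigma.ι_desc_assoc, ht, Sigma.ι_desc])
  have hc : (inv zk ≫ pullback.fst k.left a.left) ≫ k.left = a.left := by
    rw [Category.assoc, pullback.condition, show pullback.snd k.left a.left = zk from rfl, IsIso.inv_hom_id_assoc]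
  exact ⟨Over.homMk (inv zk ≫ pullback.fst _ _) (((congrArg (_ ≫ ·) (Over.w k)).symm.trans
    (Category.assoc _ _ _).symm).trans ((congrArg (· ≫ G.hom) hc).trans (Over.w a))),
    Over.OverMorphism.ext hc⟩

/-- A homomorphism which enters a subgroup modulo a square-zero ideal is conjugate into it. -/
theorem exists_enters {J : Ideal R} (hJ : J ^ 2 = ⊥)
    (hH : TwC.Locally (Spec (CommRingCat.of R)) TwC.Topology.fpqc (fun S' f => ∃ (M : Type) (_ : AddCommGroup M),
      Nonempty (Grp.mk (Red.bc f H) ≅ Grp.mk (Red.DS S' M))))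
    (w : H ⟶ G) [IsMonHom w] (k : K ⟶ G) [IsMonHom k] [IsImmersion k.left] [Mono k] (v : H ⟶ K)
    (h0 : AgreeMod J w (v ≫ k)) :
    ∃ g : 𝟙_ (Over (Spec (CommRingCat.of R))) ⟶ G,
      toUnit (Over.mk (Spec.map (CommRingCat.ofHom (Ideal.Quotient.mk J))) : Over (Spec (CommRingCat.of R))) ≫ g = 1 ∧
        ∀ (X : Over (Spec (CommRingCat.of R))) (h : X ⟶ H),
          ∃ x : X ⟶ K, x ≫ k = (toUnit X ≫ g) * (h ≫ w) * (toUnit X ≫ g)⁻¹ := by
  obtain ⟨S', f, hflat, hsurj, hcov, hloc⟩ := hH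
  haveI := hflat
  haveI := hsurj
  have hex : ∀ x : S', ∃ (P : Piece₃ H G K) (ι' : Spec (CommRingCat.of P.B) ⟶ S'),
      IsOpenImmersion ι' ∧ x ∈ Set.range ι' ∧ ι' ≫ f = (sp R P.B).hom := by
    intro x
    obtain ⟨U, hxU, M, _, ⟨e⟩⟩ := hloc x
    let ηl := (η[G] : 𝟙_ (Over (Spec (CommRingCat.of R))) ⟶ G).left
    let ηk := (η[K] : 𝟙_ (Over (Spec (CommRingCat.of R))) ⟶ K).left
    obtain ⟨V, hV, hxV, -⟩ := exists_isAffineOpen_mem_and_subset (X := G.left) (x := ηl (f x)) (U := ⊤) trivial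
    obtain ⟨V', hV', hxV', -⟩ := exists_isAffineOpen_mem_and_subset (X := K.left) (x := ηk (f x)) (U := ⊤) trivial
    obtain ⟨T, hT, hxT, hTU⟩ := exists_isAffineOpen_mem_and_subset (X := S') (x := x)
      (U := U ⊓ ((f ≫ ηl) ⁻¹ᵁ V ⊓ (f ≫ ηk) ⁻¹ᵁ V')) ⟨hxU, hxV, hxV'⟩
    haveI : IsAffine (T : Scheme.{u}) := hT
    let B : Type u := Γ((T : Scheme.{u}), ⊤)
    let i : Spec (CommRingCat.of B) ⟶ (T : Scheme.{u}) := (T : Scheme.{u}).isoSpec.inv
    obtain ⟨φ, hφ⟩ := Spec.map_surjective (i ≫ T.ι ≫ f)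
    letI : Algebra R B := φ.hom.toAlgebra
    have hp : (sp R B).hom = i ≫ T.ι ≫ f := by
      show Spec.map (CommRingCat.ofHom φ.hom) = _
      rw [CommRingCat.ofHom_hom, hφ]
    obtain ⟨LG⟩ := nonempty_lchart (G := G) V hV i (T.ι ≫ f) hp (fun t => (hTU (i t).2).2.1)
    obtain ⟨LK⟩ := nonempty_lchart (G := K) V' hV' i (T.ι ≫ f) hp (fun t => (hTU (i t).2).2.2)
    refine ⟨{ B := B, M := M, U := U, g := U.ι ≫ f, e := e, j := i ≫ S'.homOfLE (hTU.trans inf_le_left),
              hj := by rw [Category.assoc, Scheme.homOfLE_ι_assoc, hp],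
              V := LG, VK := LK }, i ≫ T.ι, ?_, ?_, ?_⟩
    · show IsOpenImmersion ((T : Scheme.{u}).isoSpec.inv ≫ T.ι)
      infer_instance
    · obtain ⟨a, ha⟩ := (T : Scheme.{u}).isoSpec.inv.surjective ⟨x, hxT⟩
      refine ⟨a, ?_⟩
      show T.ι (i a) = x
      exact (congrArg T.ι ha).trans rfl
    · exact (Category.assoc _ _ _).trans hp.symm
  choose P ι' hι hmem hιf using hex
  choose z hz using fun x => (P x).exists_good hJ w k v h0
  let 𝒰 : S'.OpenCover := Scheme.Cover.mkOfCovers S' (fun x : S' => Spec (CommRingCat.of (P x).B)) ι'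
    (fun x => let ⟨a, ha⟩ := hmem x; ⟨x, a, ha⟩) fun x => hι x
  let G' : Scheme.{u} := G.left
  -- the local points agree
  have hagree : ∀ (Q : Scheme.{u}) (x y : S') (a : Q ⟶ Spec (CommRingCat.of (P x).B))
      (b : Q ⟶ Spec (CommRingCat.of (P y).B)), (a ≫ ι' x) ≫ f = (b ≫ ι' y) ≫ f →
      a ≫ (z x).left = b ≫ (z y).left := by
    intro Q x y a b hab
    refine Scheme.Cover.hom_ext Q.affineCover _ _ fun k => ?_
    haveI : IsAffine (Q.affineCover.X k) := inferInstance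
    let c : Spec (CommRingCat.of Γ(Q.affineCover.X k, ⊤)) ⟶ Q :=
      (Q.affineCover.X k).isoSpec.inv ≫ Q.affineCover.f k
    have hc : (c ≫ a) ≫ (sp R (P x).B).hom = (c ≫ b) ≫ (sp R (P y).B).hom := by
      rw [← hιf x, ← hιf y]
      simp only [Category.assoc] at hab ⊢
      rw [hab]
    have := agree_hom (hz x) (hz y) (c ≫ a) (c ≫ b) hc
    simp only [c, Category.assoc] at this
    exact (cancel_epi _).1 this
  let g' : S' ⟶ G' := Scheme.Cover.glueMorphisms 𝒰 (fun x => (z x).left) fun x y =>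
    hagree (pullback (ι' x) (ι' y)) x y (pullback.fst _ _) (pullback.snd _ _) (by rw [pullback.condition])
  have hg' : ∀ x, ι' x ≫ g' = (z x).left := fun x => Scheme.Cover.ι_glueMorphisms 𝒰 _ _ x
  have hg'G : g' ≫ G.hom = f := Scheme.Cover.hom_ext 𝒰 _ _ fun x => by
    show ι' x ≫ g' ≫ G.hom = ι' x ≫ f
    rw [← Category.assoc, hg' x, hιf x]
    exact Over.w (z x)
  have hsym : pullback.fst f f ≫ g' = pullback.snd f f ≫ g' :=
    Scheme.Cover.hom_ext (Scheme.Pullback.openCoverOfLeftRight 𝒰 𝒰 f f) _ _ fun k => by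
      obtain ⟨x, y⟩ := k
      simp only [Scheme.Pullback.openCoverOfLeftRight_f, pullback.map, pullback.lift_fst_assoc,
        pullback.lift_snd_assoc, Category.assoc]
      erw [hg', hg']
      exact hagree _ x y _ _ (((Category.assoc _ _ _).trans pullback.condition).trans (Category.assoc _ _ _).symm)
  haveI : EffectiveEpi f := by
    rw [← Sieve.effectiveEpimorphic_singleton, Presieve.EffectiveEpimorphic.iff_forall_isSheafFor_yoneda]
    intro W
    exact (GrothendieckTopology.Subcanonical.isSheaf_of_isRepresentable _).isSheafFor _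
      (Precoverage.generate_mem_toGrothendieck (DescHom.singleton_mem_fpqc f hcov))
  let gl : Spec (CommRingCat.of R) ⟶ G' := EffectiveEpi.desc f g' fun g₁ g₂ h => by
    rw [← pullback.lift_fst_assoc g₁ g₂ h g', hsym, pullback.lift_snd_assoc]
  have hgl : f ≫ gl = g' := EffectiveEpi.fac f g' _
  let g : 𝟙_ (Over (Spec (CommRingCat.of R))) ⟶ G := Over.homMk gl (by
    show gl ≫ G.hom = 𝟙 _
    rw [← cancel_epi f, ← Category.assoc, hgl, hg'G, Category.comp_id])
  have hres : ∀ (x : S') (C : Type u) [CommRing C] [Algebra R C] (β : (P x).B →ₐ[R] C),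
      toUnit (sp R C) ≫ g = pt β ≫ z x := by
    intro x C _ _ β
    refine Over.OverMorphism.ext ?_
    have ht : (toUnit (sp R C)).left = (sp R C).hom := (Category.comp_id _).symm.trans (Over.w (toUnit (sp R C)))
    show (toUnit (sp R C)).left ≫ gl = (pt β).left ≫ (z x).left
    rw [ht, ← Over.w (pt β), ← hιf x, Category.assoc, Category.assoc, hgl, hg' x]
  refine ⟨g, ?_, ?_⟩
  · refine eq_of_cover f 𝒰 (fun x => (P x).B) (fun x => 𝟙 _) (fun x => hιf x) _ _ fun x C _ _ β y => ?_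
    rw [← Category.assoc, toUnit_unique (y ≫ toUnit _) (toUnit _), hres x C β, MonObj.comp_one]
    refine Piece₃.comp_eq_one (hz x) C β fun r hr => ?_
    obtain ⟨ψ, hψ⟩ := Spec.map_surjective y.left
    have hw : CommRingCat.ofHom (Ideal.Quotient.mk J) ≫ ψ = CommRingCat.ofHom (algebraMap R C) := by
      apply Spec.map_injective
      rw [Spec.map_comp, hψ]
      exact Over.w y
    have : algebraMap R C r = ψ.hom (Ideal.Quotient.mk J r) := (ConcreteCategory.congr_hom hw r).symm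
    rw [RingHom.mem_ker, this, Ideal.Quotient.eq_zero_iff_mem.2 hr, map_zero]
  · let a : H ⟶ G := (toUnit H ≫ g) * w * (toUnit H ≫ g)⁻¹
    obtain ⟨x, hx⟩ := exists_factor_of_cover f 𝒰 (fun x => (P x).B) (fun x => 𝟙 _) (fun x => hιf x) k a
      fun x C _ _ β y => by
        obtain ⟨l, hl⟩ := Piece₃.enters h0 (hz x) C β y
        refine ⟨l, ?_⟩
        rw [← hl]
        simp only [a, MonObj.comp_mul, GrpObj.comp_inv, ← Category.assoc]
        rw [toUnit_unique (y ≫ toUnit _) (toUnit _), hres x C β]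
    intro X h
    refine ⟨h ≫ x, ?_⟩
    rw [Category.assoc, hx]
    simp only [a, MonObj.comp_mul, GrpObj.comp_inv, ← Category.assoc]
    rw [toUnit_unique (h ≫ toUnit _) (toUnit _)]

end Groth.Agent.TransLift
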