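import Groth.Agent.ConjAvgLib.Nilp
import Groth.Agent.ConjAvgLib.LiftNilp

/-!
Averaging a homomorphism from a group of multiplicative type into a subgroup modulo a square-zero ideal.
-/

set_option autoImplicit false
set_option backward.isDefEq.respectTransparency false

noncomputable section

universe u

open CategoryTheory CategoryTheory.Limits MonoidalCategory CartesianMonoidalCategory AlgebraicGeometry CoactBr
open scoped MonObj TensorProduct

namespace Groth.Agent.TransLift

open Groth.Agent.FreeAct (DA)
open Groth.Agent.ConjAvg (LChart IsPush int int_one int_single pts pts_comp pts_mul pts_injective pts_surjective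
  AgreeMod Piece pt_id' isPush_id exists_isPush)

attribute [local instance] CoactBr.braidedAlgSpecOf

variable {R : Type u} [CommRing R] {G K H : Over (Spec (CommRingCat.of R))} [GrpObj G] [GrpObj K] [GrpObj H]

/-- Homomorphisms preserve inverses of points. -/
theorem hom_inv (f : K ⟶ G) [IsMonHom f] {X : Over (Spec (CommRingCat.of R))} (a : X ⟶ K) :
    a⁻¹ ≫ f = (a ≫ f)⁻¹ :=
  map_inv (MonoidHom.mk' (fun b : X ⟶ K => b ≫ f) (fun b c => MonObj.mul_comp b c f)) a

/-- Pushforwards commute with homomorphisms. -/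
theorem isPush_map {J : Ideal R} {hJ : J ^ 2 = ⊥} {B B' B'' : Type u} [CommRing B] [Algebra R B] [CommRing B']
    [Algebra R B'] [Algebra B B'] [IsScalarTower R B B'] [CommRing B''] [Algebra R B''] [Algebra B B'']
    [IsScalarTower R B B''] {ℓ : B' →ₗ[B] B''} {h1 : ℓ 1 = 1} {x : sp R B' ⟶ K} {z : sp R B'' ⟶ K}
    (h : IsPush J hJ ℓ h1 x z) (f : K ⟶ G) [IsMonHom f] : IsPush J hJ ℓ h1 (x ≫ f) (z ≫ f) := by
  obtain ⟨y, ⟨hy1, hy2⟩, rfl⟩ := h
  exact ⟨y ≫ f, ⟨by rw [← Category.assoc, hy1, MonObj.one_comp], by rw [← Category.assoc, hy2]⟩,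
    (Category.assoc _ _ _).symm⟩

section Pts

variable {B : Type u} [CommRing B] [Algebra R B] {M : Type} [AddCommGroup M]
  (spl : sp B (DA B M) ≅ Red.bc (sp R B).hom H) (δ : H ⟶ G)

/-- The averaged value of a morphism to a group. -/
def IsAvg (J : Ideal R) (hJ : J ^ 2 = ⊥) (z : sp R B ⟶ G) : Prop :=
  IsPush (B := B) J hJ (int B M) (int_one B)
    (pts spl (MonoidAlgebra B (Multiplicative M)) (MonoidAlgebra.of B _) ≫ δ) z

variable {spl δ} {J : Ideal R} {hJ : J ^ 2 = ⊥}

theorem congr_one (hδ : AgreeMod J δ 1) (C : Type u) [CommRing C] [Algebra R C] (x : sp R C ⟶ H) :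
    pt (Ideal.Quotient.mkₐ R (J.map (algebraMap R C))) ≫ x ≫ δ = 1 := by
  rw [← Category.assoc, hδ _ (fun r hr => ?_) _, MonObj.comp_one]
  rw [RingHom.mem_ker, IsScalarTower.algebraMap_apply R C (C ⧸ J.map (algebraMap R C))]
  exact Ideal.Quotient.eq_zero_iff_mem.2 (Ideal.mem_map_of_mem _ hr)

/-- The averaged value over an algebra. -/
theorem IsAvg.push {z : sp R B ⟶ G} (h : IsAvg spl δ J hJ z) (C : Type u) [CommRing C] [Algebra R C] [Algebra B C]
    [IsScalarTower R B C] :
    IsPush (B := C) J hJ (int C M) (int_one C)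
      (pts spl (MonoidAlgebra C (Multiplicative M)) (MonoidAlgebra.of C _) ≫ δ)
      (pt (IsScalarTower.toAlgHom R B C) ≫ z) := by
  classical
  let L : MonoidAlgebra B (Multiplicative M) →ₐ[B] MonoidAlgebra C (Multiplicative M) :=
    MonoidAlgebra.lift B _ (Multiplicative M) (MonoidAlgebra.of C _)
  have hL : ∀ m, L (MonoidAlgebra.single m 1) = MonoidAlgebra.single m 1 := fun m => by simp [L]
  have hlin : ∀ a, algebraMap B C (int B M a) = int C M (L a) := fun a =>
    DFunLike.congr_fun (f := (Algebra.linearMap B C).comp (int B M))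
      (g := ((int C M).restrictScalars B).comp L.toLinearMap)
      ((MonoidAlgebra.basis (Multiplicative M) B).ext fun m => by
        simp only [LinearMap.comp_apply, MonoidAlgebra.basis_apply, int_single, LinearMap.restrictScalars_apply,
          AlgHom.toLinearMap_apply, hL, Algebra.linearMap_apply, apply_ite, map_one, map_zero]
        split_ifs <;> simp) a
  have h2 := IsPush.natural (B := B) h (IsScalarTower.toAlgHom R B C) (L.restrictScalars R)
    (IsScalarTower.toAlgHom R B C) (fun b => by
      show L (algebraMap B _ b) = algebraMap C _ (algebraMap B C b)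
      rw [L.commutes, ← IsScalarTower.algebraMap_apply]) (int C M) (int_one C) hlin
  rw [← Category.assoc, pts_comp] at h2
  convert h2 using 4
  exact MonoidHom.ext fun m => (hL m).symm

/-- The averaged value of a splitting gives the one of a splitting over an algebra. -/
theorem isAvg_bc [IsMonHom spl.hom] {z : sp R B ⟶ G} (h : IsAvg spl δ J hJ z) (C : Type u) [CommRing C] [Algebra R C]
    [Algebra B C] [IsScalarTower R B C] {M' : Type} [AddCommGroup M']
    (w' : sp C (DA C M') ≅ Red.bc (sp R C).hom H) [IsMonHom w'.hom] :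
    IsAvg w' δ J hJ (pt (IsScalarTower.toAlgHom R B C) ≫ z) := by
  let A := MonoidAlgebra C (Multiplicative M)
  let A' := MonoidAlgebra C (Multiplicative M')
  obtain ⟨χ, hχ⟩ := pts_surjective spl A' (pts w' A' (MonoidAlgebra.of C _))
  obtain ⟨χ', hχ'⟩ := pts_surjective w' A (pts spl A (MonoidAlgebra.of C _))
  let L : A →ₐ[C] A' := MonoidAlgebra.lift C A' (Multiplicative M) χ
  let L' : A' →ₐ[C] A := MonoidAlgebra.lift C A (Multiplicative M') χ'
  have hL : L.toRingHom.toMonoidHom.comp (MonoidAlgebra.of C _) = χ := MonoidHom.ext fun m => by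
    show MonoidAlgebra.lift C A' (Multiplicative M) χ (MonoidAlgebra.single m 1) = χ m
    exact (MonoidAlgebra.lift_single _ _ _).trans (one_smul _ _)
  have hL' : L'.toRingHom.toMonoidHom.comp (MonoidAlgebra.of C _) = χ' := MonoidHom.ext fun m => by
    show MonoidAlgebra.lift C A (Multiplicative M') χ' (MonoidAlgebra.single m 1) = χ' m
    exact (MonoidAlgebra.lift_single _ _ _).trans (one_smul _ _)
  have hinv : ∀ a, L' (L a) = a := fun a => by
    have h1 : L'.toRingHom.toMonoidHom.comp χ = MonoidAlgebra.of C _ := pts_injective spl A (by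
      have h2 := pts_comp spl (L'.restrictScalars B) χ
      rw [← hχ] at h2
      have h3 := pts_comp w' L' (MonoidAlgebra.of C _)
      rw [hL', ← hχ'] at h3
      exact h2.symm.trans h3)
    refine DFunLike.congr_fun (f := L'.comp L) (g := AlgHom.id C A)
      (AlgHom.toLinearMap_injective ((MonoidAlgebra.basis (Multiplicative M) C).ext fun m => ?_)) a
    rw [MonoidAlgebra.basis_apply]
    show L' (L (MonoidAlgebra.single m 1)) = MonoidAlgebra.single m 1
    rw [show L (MonoidAlgebra.single m 1) = χ m from DFunLike.congr_fun hL m]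
    exact DFunLike.congr_fun h1 m
  have hmul : ∀ (D : Type u) [CommRing D] [Algebra C D] (ψ ψ' : Multiplicative M' →* D) (m : Multiplicative M),
      MonoidAlgebra.lift C D (Multiplicative M') (ψ * ψ') (L (MonoidAlgebra.single m 1)) =
        MonoidAlgebra.lift C D (Multiplicative M') ψ (L (MonoidAlgebra.single m 1)) *
          MonoidAlgebra.lift C D (Multiplicative M') ψ' (L (MonoidAlgebra.single m 1)) := by
    intro D _ _ ψ ψ' m
    letI : Algebra B D := ((algebraMap C D).comp (algebraMap B C)).toAlgebra
    letI : Algebra R D := ((algebraMap C D).comp (algebraMap R C)).toAlgebra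
    haveI : IsScalarTower B C D := IsScalarTower.of_algebraMap_eq fun b => rfl
    haveI : IsScalarTower R C D := IsScalarTower.of_algebraMap_eq fun b => rfl
    haveI : IsScalarTower R B D := IsScalarTower.of_algebraMap_eq fun b => by
      show algebraMap C D (algebraMap R C b) = algebraMap C D (algebraMap B C (algebraMap R B b))
      rw [← IsScalarTower.algebraMap_apply R B C]
    have key : ∀ φ : Multiplicative M' →* D,
        pts spl D ((MonoidAlgebra.lift C D (Multiplicative M') φ).toRingHom.toMonoidHom.comp χ) = pts w' D φ := by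
      intro φ
      have h2 := pts_comp spl ((MonoidAlgebra.lift C D (Multiplicative M') φ).restrictScalars B) χ
      rw [← hχ] at h2
      refine h2.symm.trans ((pts_comp w' (MonoidAlgebra.lift C D (Multiplicative M') φ) _).trans
        (congrArg (pts w' D) (MonoidHom.ext fun j => ?_)))
      show MonoidAlgebra.lift C D (Multiplicative M') φ (MonoidAlgebra.single j 1) = φ j
      exact (MonoidAlgebra.lift_single _ _ _).trans (one_smul _ _)
    rw [show L (MonoidAlgebra.single m 1) = χ m from DFunLike.congr_fun hL m]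
    exact DFunLike.congr_fun (pts_injective spl D
      (show pts spl D ((MonoidAlgebra.lift C D (Multiplicative M') (ψ * ψ')).toRingHom.toMonoidHom.comp χ) =
        pts spl D (((MonoidAlgebra.lift C D (Multiplicative M') ψ).toRingHom.toMonoidHom.comp χ) *
          (MonoidAlgebra.lift C D (Multiplicative M') ψ').toRingHom.toMonoidHom.comp χ) by
        rw [pts_mul spl, key, key, key, pts_mul])) m
  have h1 := IsPush.natural (B := C) (h.push C) (AlgHom.id R C) (L.restrictScalars R) (AlgHom.id R C)
    (fun b => L.commutes b) (int C M') (int_one C)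
    (fun a => (ConjAvg.Fam.int_comp_eq L (Function.LeftInverse.injective hinv) hmul a).symm)
  have h2 := pts_comp spl (L.restrictScalars B) (MonoidAlgebra.of C (Multiplicative M))
  have h3 : pt (L.restrictScalars R) ≫ pts spl A (MonoidAlgebra.of C _) = pts w' A' (MonoidAlgebra.of C _) :=
    h2.trans ((congrArg (pts spl A') hL).trans hχ.symm)
  rw [← Category.assoc, h3, pt_id', Category.id_comp] at h1
  exact h1

/-- Conjugation by the averaged value carries the homomorphism into the subgroup. -/
theorem IsAvg.enters [IsMonHom spl.hom] (w : H ⟶ G) [IsMonHom w] (k : K ⟶ G) [IsMonHom k] [Mono k] (v : H ⟶ K)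
    (hmod : AgreeMod J w (v ≫ k)) (V : LChart G B) (VK : LChart K B) {z : sp R B ⟶ G}
    (h : IsAvg spl ((v ≫ k) * w⁻¹) J hJ z) (C : Type u) [CommRing C] [Algebra R C] [Algebra B C] [IsScalarTower R B C]
    (χ : Multiplicative M →* C) :
    ∃ x : sp R C ⟶ K, (pt (IsScalarTower.toAlgHom R B C) ≫ z) * (pts spl C χ ≫ w) *
      (pt (IsScalarTower.toAlgHom R B C) ≫ z)⁻¹ = x ≫ k := by
  classical
  let W := V.map (IsScalarTower.toAlgHom R B C)
  let g := pt (IsScalarTower.toAlgHom R B C) ≫ z
  let A := MonoidAlgebra C (Multiplicative M)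
  let ω : Multiplicative M →* A := MonoidAlgebra.of C _
  let cst : C →ₐ[B] A := IsScalarTower.toAlgHom B C A
  let χ' : Multiplicative M →* A := cst.toRingHom.toMonoidHom.comp χ
  let τ : A →ₐ[C] A := MonoidAlgebra.lift C A (Multiplicative M) (χ' * ω)
  have hg : IsPush (B := C) J hJ (int C M) (int_one C) ((pts spl A ω ≫ ((v ≫ k) * w⁻¹))) g := h.push C
  have hτ : ∀ a, int C M (τ a) = int C M a := fun a =>
    DFunLike.congr_fun (f := (int C M).comp τ.toLinearMap) (g := int C M)
      ((MonoidAlgebra.basis (Multiplicative M) C).ext fun m => by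
        have e : τ (MonoidAlgebra.single m 1) = MonoidAlgebra.single m (χ m) := by
          show MonoidAlgebra.lift C A (Multiplicative M) (χ' * ω) (MonoidAlgebra.single m 1) = _
          rw [MonoidAlgebra.lift_single, one_smul]
          show algebraMap C A (χ m) * MonoidAlgebra.single m 1 = _
          rw [← Algebra.smul_def, MonoidAlgebra.smul_single, smul_eq_mul, mul_one]
        rw [MonoidAlgebra.basis_apply]
        show int C M (τ (MonoidAlgebra.single m 1)) = int C M (MonoidAlgebra.single m 1)
        rw [e, int_single, int_single]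
        split_ifs with hm
        · rw [hm, map_one]
        · rfl) a
  let δ' : H ⟶ G := (v ≫ k) * w⁻¹
  have hδ : AgreeMod J δ' 1 := fun D _ _ hD y => by
    rw [MonObj.comp_mul, GrpObj.comp_inv, ← hmod D hD y, mul_inv_cancel, MonObj.comp_one]
  have e₁ : pt (τ.restrictScalars R) ≫ pts spl A ω ≫ δ' = pts spl A (χ' * ω) ≫ δ' := by
    have h3 := pts_comp spl (τ.restrictScalars B) ω
    rw [← Category.assoc]
    refine congrArg (· ≫ δ') (h3.trans (congrArg _ (MonoidHom.ext fun m => ?_)))
    show MonoidAlgebra.lift C A (Multiplicative M) (χ' * ω) (MonoidAlgebra.single m 1) = (χ' * ω) m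
    exact (MonoidAlgebra.lift_single _ _ _).trans (one_smul _ _)
  -- the translated value has the same average
  have h1 : IsPush (B := C) J hJ (int C M) (int_one C) (pts spl A (χ' * ω) ≫ δ') g := by
    have := IsPush.natural (B := C) hg (AlgHom.id R C) (τ.restrictScalars R) (AlgHom.id R C)
      (fun b => τ.commutes b) (int C M) (int_one C) (fun a => (hτ a).symm)
    rwa [e₁, pt_id', Category.id_comp] at this
  have hc : pt (cst.restrictScalars R) ≫ pts spl C χ = pts spl A χ' := pts_comp spl cst χ
  -- the constant part is its own average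
  have h2 : IsPush (B := C) J hJ (int C M) (int_one C) (pts spl A χ' ≫ δ') (pts spl C χ ≫ δ') := by
    have := IsPush.natural (B := C) (isPush_id (B := C) hJ W (pts spl C χ ≫ δ') (congr_one hδ C _)) (AlgHom.id R C)
      (cst.restrictScalars R) (AlgHom.id R C) (fun b => rfl) (int C M) (int_one C) (fun a => by
        show a = int C M (algebraMap C A a)
        rw [Algebra.algebraMap_eq_smul_one, map_smul, int_one, smul_eq_mul, mul_one])
    rwa [← Category.assoc, hc, pt_id', Category.id_comp] at this
  -- the failure of multiplicativity lies in the subgroup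
  let a := pts spl A χ'
  let b := pts spl A ω
  let e : sp R A ⟶ K := ((a * b) ≫ v) * ((a ≫ v) * (b ≫ v))⁻¹
  have he : pt (Ideal.Quotient.mkₐ R (J.map (algebraMap R A))) ≫ e = 1 := by
    let π := pt (Ideal.Quotient.mkₐ R (J.map (algebraMap R A)))
    have hπ : J ≤ RingHom.ker (algebraMap R (A ⧸ J.map (algebraMap R A))) := fun r hr => by
      rw [RingHom.mem_ker, IsScalarTower.algebraMap_apply R A (A ⧸ J.map (algebraMap R A))]
      exact Ideal.Quotient.eq_zero_iff_mem.2 (Ideal.mem_map_of_mem _ hr)
    have hw : ∀ y : sp R A ⟶ H, π ≫ (y ≫ v) ≫ k = (π ≫ y) ≫ w := fun y => by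
      rw [hmod _ hπ (π ≫ y)]
      simp only [Category.assoc]
    rw [← cancel_mono k, MonObj.one_comp, Category.assoc]
    simp only [e, MonObj.mul_comp, hom_inv, MonObj.comp_mul, GrpObj.comp_inv]
    rw [hw, hw, hw, MonObj.comp_mul, MonObj.mul_comp, mul_inv_cancel]
  obtain ⟨kk, hkk⟩ := exists_isPush (J := J) (hJ := hJ) (ℓ := int C M) (h1 := int_one C)
    (VK.map (IsScalarTower.toAlgHom R B C)) e he
  have hcw : pt (IsScalarTower.toAlgHom R C A) ≫ pts spl C χ ≫ w = a ≫ w := by
    rw [← Category.assoc]
    exact congrArg (· ≫ w) hc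
  have h3 := (isPush_map hkk k).mul (h2.mul (hg.conj (pts spl C χ ≫ w)))
  rw [hcw, show pt (IsScalarTower.toAlgHom R C C) ≫ pts spl C χ ≫ w = pts spl C χ ≫ w by
    rw [show IsScalarTower.toAlgHom R C C = AlgHom.id R C from rfl, pt_id', Category.id_comp]] at h3
  have heq : (e ≫ k) * ((a ≫ δ') * ((a ≫ w) * (b ≫ δ') * (a ≫ w)⁻¹)) = pts spl A (χ' * ω) ≫ δ' := by
    rw [pts_mul]
    show _ = (a * b) ≫ δ'
    simp only [δ', e, MonObj.comp_mul, GrpObj.comp_inv, MonObj.mul_comp, hom_inv, Category.assoc, mul_assoc, mul_inv_rev,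
      inv_mul_cancel_left, mul_inv_cancel_left]
  rw [heq] at h3
  have key : g = (kk ≫ k) * ((pts spl C χ ≫ δ') * ((pts spl C χ ≫ w) * g * (pts spl C χ ≫ w)⁻¹)) :=
    IsPush.unique W h1 h3
  refine ⟨kk * (pts spl C χ ≫ v), ?_⟩
  show g * (pts spl C χ ≫ w) * g⁻¹ = _
  conv_lhs => arg 1; rw [key]
  simp only [δ', MonObj.comp_mul, GrpObj.comp_inv, MonObj.mul_comp, Category.assoc, mul_assoc, inv_mul_cancel_left,
    inv_mul_cancel, mul_inv_cancel, mul_one]

end Pts

end Groth.Agent.TransLift
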